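import Mathlib.AlgebraicGeometry.OpenImmersion
import Mathlib.AlgebraicGeometry.AffineScheme
import Mathlib.AlgebraicGeometry.Gluing
import Mathlib.AlgebraicGeometry.PullbackCarrier
import Mathlib.Algebra.Category.Ring.Constructions
import Mathlib.RingTheory.Localization.Away.Basic
import Mathlib.RingTheory.Spectrum.Prime.Topology
import Mathlib.CategoryTheory.Limits.Shapes.Pullback.IsPullback.Basic

/-!
`Spec` of a fibre product of rings, one map surjective, is a pushout in schemes.
-/

universe u

open CategoryTheory Limits AlgebraicGeometry PrimeSpectrum TopologicalSpace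

namespace Groth.Agent.FerrandPush

/-- `B'` is the fibre product of `B` and `A'` over `A`, with `A' → A` surjective. -/
structure IsFerrand {A A' B B' : Type u} [CommRing A] [CommRing A'] [CommRing B] [CommRing B']
    (p : A' →+* A) (q : B →+* A) (i : B' →+* B) (j : B' →+* A') : Prop where
  surj : Function.Surjective p
  comm : ∀ x, q (i x) = p (j x)
  exist : ∀ b a', q b = p a' → ∃ x, i x = b ∧ j x = a'
  ext : ∀ x y, i x = i y → j x = j y → x = y

variable {A A' B B' : Type u} [CommRing A] [CommRing A'] [CommRing B] [CommRing B']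
  {p : A' →+* A} {q : B →+* A} {i : B' →+* B} {j : B' →+* A'}

variable (h : B') in
/-- Localisation of the square at `h`. -/
theorem IsFerrand.away (H : IsFerrand p q i j) :
    IsFerrand
      (IsLocalization.map (Localization.Away (p (j h))) p
        (show Submonoid.powers (j h) ≤ (Submonoid.powers (p (j h))).comap p by
          rintro x ⟨n, rfl⟩; exact ⟨n, by simp⟩) : Localization.Away (j h) →+* Localization.Away (p (j h)))
      (IsLocalization.map (Localization.Away (p (j h))) q
        (show Submonoid.powers (i h) ≤ (Submonoid.powers (p (j h))).comap q by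
          rintro x ⟨n, rfl⟩; exact ⟨n, by simp [H.comm]⟩) : Localization.Away (i h) →+* Localization.Away (p (j h)))
      (IsLocalization.map (Localization.Away (i h)) i
        (show Submonoid.powers h ≤ (Submonoid.powers (i h)).comap i by
          rintro x ⟨n, rfl⟩; exact ⟨n, by simp⟩) : Localization.Away h →+* Localization.Away (i h))
      (IsLocalization.map (Localization.Away (j h)) j
        (show Submonoid.powers h ≤ (Submonoid.powers (j h)).comap j by
          rintro x ⟨n, rfl⟩; exact ⟨n, by simp⟩) : Localization.Away h →+* Localization.Away (j h)) where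
  surj z := by
    obtain ⟨a, ⟨_, n, rfl⟩, rfl⟩ := IsLocalization.exists_mk'_eq (Submonoid.powers (p (j h))) z
    obtain ⟨a', rfl⟩ := H.surj a
    refine ⟨IsLocalization.mk' _ a' (⟨j h ^ n, n, rfl⟩ : Submonoid.powers (j h)), ?_⟩
    rw [IsLocalization.map_mk']
    congr 1
    exact Subtype.ext (by simp)
  comm x := by
    obtain ⟨a, ⟨_, n, rfl⟩, rfl⟩ := IsLocalization.exists_mk'_eq (Submonoid.powers h) x
    simp only [IsLocalization.map_mk']
    refine IsLocalization.mk'_eq_of_eq ?_
    simp [H.comm]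
  exist b a hba := by
    obtain ⟨b, ⟨_, n, rfl⟩, rfl⟩ := IsLocalization.exists_mk'_eq (Submonoid.powers (i h)) b
    obtain ⟨a, ⟨_, m, rfl⟩, rfl⟩ := IsLocalization.exists_mk'_eq (Submonoid.powers (j h)) a
    simp only [IsLocalization.map_mk', IsLocalization.eq] at hba
    obtain ⟨⟨_, k, rfl⟩, hk⟩ := hba
    simp only [map_pow, H.comm] at hk
    obtain ⟨x, hx1, hx2⟩ := H.exist (b * i h ^ (m + k)) (a * j h ^ (n + k)) (by
      simp only [map_mul, map_pow, H.comm, pow_add]
      linear_combination hk)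
    refine ⟨IsLocalization.mk' _ x (⟨h ^ (n + m + k), n + m + k, rfl⟩ : Submonoid.powers h), ?_, ?_⟩
    · rw [IsLocalization.map_mk']
      refine IsLocalization.mk'_eq_of_eq ?_
      simp only [map_mul, map_pow, hx1, pow_add]; ring
    · rw [IsLocalization.map_mk']
      refine IsLocalization.mk'_eq_of_eq ?_
      simp only [map_mul, map_pow, hx2, pow_add]; ring
  ext x y h1 h2 := by
    obtain ⟨a, ⟨_, n, rfl⟩, rfl⟩ := IsLocalization.exists_mk'_eq (Submonoid.powers h) x
    obtain ⟨b, ⟨_, m, rfl⟩, rfl⟩ := IsLocalization.exists_mk'_eq (Submonoid.powers h) y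
    simp only [IsLocalization.map_mk', IsLocalization.eq] at h1 h2 ⊢
    obtain ⟨⟨_, k, rfl⟩, hk⟩ := h1
    obtain ⟨⟨_, l, rfl⟩, hl⟩ := h2
    refine ⟨⟨h ^ (k + l), k + l, rfl⟩, ?_⟩
    simp only [map_pow] at hk hl
    refine H.ext _ _ ?_ ?_
    · simp only [map_mul, map_pow, pow_add]; linear_combination (i h ^ l) * hk
    · simp only [map_mul, map_pow, pow_add]; linear_combination (j h ^ k) * hl

theorem IsFerrand.surj_i (H : IsFerrand p q i j) : Function.Surjective i := fun b => by
  obtain ⟨a', ha'⟩ := H.surj (q b)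
  obtain ⟨x, hx, -⟩ := H.exist b a' ha'.symm
  exact ⟨x, hx⟩

/-- The two pieces cover. -/
theorem IsFerrand.covers (H : IsFerrand p q i j) (P : PrimeSpectrum B') :
    P ∈ Set.range (comap i) ∨ P ∈ Set.range (comap j) := by
  by_cases hP : RingHom.ker i ≤ P.asIdeal
  · left
    rw [range_comap_of_surjective _ _ H.surj_i]
    exact hP
  right
  obtain ⟨f, hf, hfP⟩ := SetLike.not_le_iff_exists.1 hP
  rw [RingHom.mem_ker] at hf
  have hex : ∀ a : A', ∃ x, i x = 0 ∧ j x = a * j f := fun a => by
    refine H.exist 0 (a * j f) ?_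
    rw [map_zero, map_mul, ← H.comm, hf, map_zero, mul_zero]
  choose x hxi hxj using hex
  let Q : Ideal A' :=
    { carrier := {a | x a ∈ P.asIdeal}
      zero_mem' := by
        have : x 0 = 0 := H.ext _ _ (by rw [hxi, map_zero]) (by rw [hxj, map_zero, zero_mul])
        simp [this]
      add_mem' := by
        intro a b ha hb
        have : x (a + b) = x a + x b := H.ext _ _ (by rw [map_add, hxi, hxi, hxi, add_zero])
          (by rw [map_add, hxj, hxj, hxj, add_mul])
        show x (a + b) ∈ P.asIdeal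
        rw [this]; exact add_mem ha hb
      smul_mem' := by
        intro c a ha
        have : x (c * a) * f = x c * x a := H.ext _ _ (by rw [map_mul, map_mul, hxi, hxi, zero_mul, zero_mul])
          (by rw [map_mul, map_mul, hxj, hxj, hxj]; ring)
        exact (P.isPrime.mem_or_mem (this ▸ P.asIdeal.mul_mem_left (x c) ha)).resolve_right hfP }
  have hQ : ∀ y, j y ∈ Q ↔ y ∈ P.asIdeal := fun y => by
    have : x (j y) = y * f := H.ext _ _ (by rw [hxi, map_mul, hf, mul_zero]) (by rw [hxj, map_mul])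
    show x (j y) ∈ P.asIdeal ↔ _
    rw [this]
    exact ⟨fun h => (P.isPrime.mem_or_mem h).resolve_right hfP, fun h => P.asIdeal.mul_mem_right _ h⟩
  have hQp : Q.IsPrime := by
    refine ⟨fun htop => hfP ?_, fun {a b} hab => ?_⟩
    · exact (hQ f).1 (htop ▸ Submodule.mem_top)
    · have : x (a * b) * f = x a * x b := H.ext _ _ (by rw [map_mul, map_mul, hxi, hxi, zero_mul, zero_mul])
        (by rw [map_mul, map_mul, hxj, hxj, hxj]; ring)
      exact P.isPrime.mem_or_mem (this ▸ P.asIdeal.mul_mem_right f hab)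
  exact ⟨⟨Q, hQp⟩, PrimeSpectrum.ext (Ideal.ext fun y => hQ y)⟩

/-- `Spec` of a ring map. -/
noncomputable abbrev sp {R S : Type u} [CommRing R] [CommRing S] (φ : R →+* S) :
    Spec (CommRingCat.of S) ⟶ Spec (CommRingCat.of R) := Spec.map (CommRingCat.ofHom φ)

lemma sp_comp {R S T : Type u} [CommRing R] [CommRing S] [CommRing T] (φ : R →+* S) (ψ : S →+* T) :
    sp ψ ≫ sp φ = sp (ψ.comp φ) := by
  rw [← Spec.map_comp, ← CommRingCat.ofHom_comp]

lemma range_sp_away {R : Type u} [CommRing R] (h : R) :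
    Set.range (sp (algebraMap R (Localization.Away h))) = (basicOpen h : Set (PrimeSpectrum R)) :=
  localization_away_comap_range (Localization.Away h) h

instance {R : Type u} [CommRing R] (h : R) : IsOpenImmersion (sp (algebraMap R (Localization.Away h))) :=
  IsOpenImmersion.of_isLocalization h

/-- Uniqueness. -/
theorem IsFerrand.hom_ext (H : IsFerrand p q i j) {T : Scheme.{u}} {γ γ' : Spec (CommRingCat.of B') ⟶ T}
    (hi : sp i ≫ γ = sp i ≫ γ') (hj : sp j ≫ γ = sp j ≫ γ') : γ = γ' := by
  have hbase : ∀ P, γ P = γ' P := by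
    intro P
    rcases H.covers P with ⟨Q, rfl⟩ | ⟨Q, rfl⟩
    · exact congrArg (fun k : Spec (CommRingCat.of B) ⟶ T => k Q) hi
    · exact congrArg (fun k : Spec (CommRingCat.of A') ⟶ T => k Q) hj
  refine Scheme.hom_ext_of_forall _ _ fun P => ?_
  obtain ⟨U, hU, hPU, -⟩ := exists_isAffineOpen_mem_and_subset (x := γ P) (U := ⊤) trivial
  obtain ⟨_, ⟨_, ⟨h, rfl⟩, rfl⟩, hPh, hhU⟩ :=
    (PrimeSpectrum.isBasis_basic_opens (R := B')).exists_subset_of_mem_open (a := P) hPU (γ ⁻¹ᵁ U).isOpen
  let ι := sp (algebraMap B' (Localization.Away h))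
  refine ⟨ι.opensRange, ?_, ?_⟩
  · show P ∈ Set.range ι
    rw [range_sp_away]
    exact hPh
  rw [← Scheme.Hom.isoOpensRange_inv_comp ι, Category.assoc, Category.assoc]
  congr 1
  have hle : ∀ δ : Spec (CommRingCat.of B') ⟶ T, (∀ P, δ P = γ P) →
      ∃ κ : Γ(T, U) ⟶ CommRingCat.of (Localization.Away h), Spec.map κ ≫ hU.fromSpec = ι ≫ δ := by
    intro δ hδ
    have : Set.range (ι ≫ δ) ⊆ Set.range hU.fromSpec := by
      rintro _ ⟨z, rfl⟩
      rw [hU.range_fromSpec]
      show δ (ι z) ∈ U
      rw [hδ]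
      refine hhU ?_
      rw [← range_sp_away]
      exact ⟨z, rfl⟩
    obtain ⟨κ, hκ⟩ := Spec.map_surjective (IsOpenImmersion.lift hU.fromSpec _ this)
    exact ⟨κ, by rw [hκ, IsOpenImmersion.lift_fac]⟩
  obtain ⟨κ, hκ⟩ := hle γ fun _ => rfl
  obtain ⟨κ', hκ'⟩ := hle γ' fun P => (hbase P).symm
  have Hh := H.away h
  have key : ∀ {R : Type u} [CommRing R] (k : B' →+* R)
      (hpk : Submonoid.powers h ≤ (Submonoid.powers (k h)).comap k), sp k ≫ γ = sp k ≫ γ' →
      κ ≫ CommRingCat.ofHom (IsLocalization.map (Localization.Away (k h)) k hpk : Localization.Away h →+* _) =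
        κ' ≫ CommRingCat.ofHom (IsLocalization.map (Localization.Away (k h)) k hpk : Localization.Away h →+* _) := by
    intro R _ k hpk hγ
    refine Spec.map_injective ?_
    rw [← cancel_mono hU.fromSpec, Spec.map_comp, Spec.map_comp, Category.assoc, Category.assoc, hκ, hκ',
      ← Category.assoc, ← Category.assoc, sp_comp, IsLocalization.map_comp,
      ← sp_comp k (algebraMap R _), Category.assoc, Category.assoc, hγ]
  have k1 := key i (by rintro x ⟨n, rfl⟩; exact ⟨n, by simp⟩) hi
  have k2 := key j (by rintro x ⟨n, rfl⟩; exact ⟨n, by simp⟩) hj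
  have : κ = κ' := CommRingCat.hom_ext (RingHom.ext fun a => Hh.ext _ _
    (congrArg (fun f => f.hom a) k1) (congrArg (fun f => f.hom a) k2))
  rw [← hκ, ← hκ', this]

/-- A partial solution over `D(h)`. -/
theorem IsFerrand.exists_local (H : IsFerrand p q i j) {T : Scheme.{u}} (α : Spec (CommRingCat.of B) ⟶ T)
    (β : Spec (CommRingCat.of A') ⟶ T) (hαβ : sp p ≫ β = sp q ≫ α) (P : PrimeSpectrum B') :
    ∃ h : B', P ∈ basicOpen h ∧ ∃ U : T.Opens, IsAffineOpen U ∧
      Set.range (sp (algebraMap B (Localization.Away (i h))) ≫ α) ⊆ (U : Set T) ∧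
      Set.range (sp (algebraMap A' (Localization.Away (j h))) ≫ β) ⊆ (U : Set T) := by
  suffices ∃ h : B', P ∈ basicOpen h ∧ ∃ U : T.Opens, IsAffineOpen U ∧
      (basicOpen (i h) : Set (PrimeSpectrum B)) ⊆ α ⁻¹' U ∧
      (basicOpen (j h) : Set (PrimeSpectrum A')) ⊆ β ⁻¹' U by
    obtain ⟨h, hP, U, hU, h1, h2⟩ := this
    refine ⟨h, hP, U, hU, ?_, ?_⟩ <;> rintro _ ⟨z, rfl⟩
    · exact h1 (range_sp_away (i h) ▸ ⟨z, rfl⟩)
    · exact h2 (range_sp_away (j h) ▸ ⟨z, rfl⟩)
  by_cases hP : RingHom.ker i ≤ P.asIdeal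
  · obtain ⟨Q, rfl⟩ : P ∈ Set.range (comap i) := by
      rw [range_comap_of_surjective _ _ H.surj_i]; exact hP
    obtain ⟨U, hU, hQU, -⟩ := exists_isAffineOpen_mem_and_subset (x := α Q) (U := ⊤) trivial
    obtain ⟨_, ⟨_, ⟨b, rfl⟩, rfl⟩, hQb, hbU⟩ :=
      (PrimeSpectrum.isBasis_basic_opens (R := B)).exists_subset_of_mem_open (a := Q) hQU (α ⁻¹ᵁ U).isOpen
    obtain ⟨h0, rfl⟩ := H.surj_i b
    obtain ⟨I, hI⟩ := (PrimeSpectrum.isClosed_iff_zeroLocus_ideal _).1 (β ⁻¹ᵁ U).isOpen.isClosed_compl
    have hrad : j h0 ∈ (I ⊔ RingHom.ker p).radical := by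
      rw [Ideal.radical_eq_sInf, Ideal.mem_sInf]
      rintro R ⟨hR, hRp⟩
      by_contra hn
      have hmem : (⟨R, hRp⟩ : PrimeSpectrum A') ∈ zeroLocus (I : Set A') := le_sup_left.trans hR
      rw [← hI] at hmem
      have hrange : (⟨R, hRp⟩ : PrimeSpectrum A') ∈ Set.range (comap p) := by
        rw [range_comap_of_surjective _ _ H.surj]
        exact le_sup_right.trans hR
      obtain ⟨S, hS⟩ := hrange
      refine hmem ?_
      show β ⟨R, hRp⟩ ∈ U
      rw [← hS]
      have e : β (comap p S) = α (comap q S) :=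
        congrArg (fun k : Spec (CommRingCat.of A) ⟶ T => k S) hαβ
      rw [e]
      refine hbU ?_
      show q (i h0) ∉ S.asIdeal
      rw [H.comm]
      intro hmem'
      exact hn ((congrArg PrimeSpectrum.asIdeal hS).le hmem')
    obtain ⟨n, hn⟩ := hrad
    obtain ⟨a, ha, k, hk, hak⟩ := Submodule.mem_sup.1 hn
    obtain ⟨x, hx1, hx2⟩ := H.exist 0 k (by rw [map_zero]; exact (RingHom.mem_ker.1 hk).symm)
    refine ⟨h0 ^ (n + 1) - h0 * x, ?_, U, hU, ?_, ?_⟩
    · show i (h0 ^ (n + 1) - h0 * x) ∉ Q.asIdeal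
      rw [map_sub, map_mul, hx1, mul_zero, sub_zero, map_pow]
      exact fun h => hQb (Q.isPrime.mem_of_pow_mem _ h)
    · intro S hS
      refine hbU ?_
      show i h0 ∉ S.asIdeal
      intro h
      refine hS ?_
      rw [map_sub, map_mul, hx1, mul_zero, sub_zero, map_pow]
      exact Ideal.pow_mem_of_mem _ h _ (Nat.succ_pos n)
    · intro S hS
      by_contra hSU
      have hSI : S ∈ zeroLocus (I : Set A') := hI ▸ hSU
      refine hS ?_
      have e : j (h0 ^ (n + 1) - h0 * x) = j h0 * a := by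
        rw [map_sub, map_mul, hx2, map_pow, pow_succ']
        rw [← hak]; ring
      show j (h0 ^ (n + 1) - h0 * x) ∈ S.asIdeal
      rw [e]
      exact S.asIdeal.mul_mem_left _ (hSI ha)
  · obtain ⟨f, hf, hfP⟩ := SetLike.not_le_iff_exists.1 hP
    rw [RingHom.mem_ker] at hf
    obtain ⟨Q, rfl⟩ := (H.covers P).resolve_left fun ⟨Q, hQ⟩ => hP (by
      rw [← hQ]; intro z hz; show i z ∈ Q.asIdeal; rw [RingHom.mem_ker.1 hz]; exact zero_mem _)
    obtain ⟨U, hU, hQU, -⟩ := exists_isAffineOpen_mem_and_subset (x := β Q) (U := ⊤) trivial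
    obtain ⟨_, ⟨_, ⟨g, rfl⟩, rfl⟩, hQg, hgU⟩ :=
      (PrimeSpectrum.isBasis_basic_opens (R := A')).exists_subset_of_mem_open (a := Q) hQU (β ⁻¹ᵁ U).isOpen
    obtain ⟨x, hx1, hx2⟩ := H.exist 0 (g * j f) (by rw [map_zero, map_mul, ← H.comm, hf, map_zero, mul_zero])
    refine ⟨x, ?_, U, hU, ?_, ?_⟩
    · show j x ∉ Q.asIdeal
      rw [hx2]
      exact fun h => (Q.isPrime.mem_or_mem h).elim hQg hfP
    · intro S hS
      exact absurd (show i x ∈ S.asIdeal by rw [hx1]; exact zero_mem _) hS
    · intro S hS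
      refine hgU ?_
      show g ∉ S.asIdeal
      intro h
      refine hS ?_
      rw [hx2]; exact S.asIdeal.mul_mem_right _ h

/-- Existence over `D(h)`, in a form stable under restriction. -/
theorem IsFerrand.exists_over (H : IsFerrand p q i j) {T : Scheme.{u}} (α : Spec (CommRingCat.of B) ⟶ T)
    (β : Spec (CommRingCat.of A') ⟶ T) (hαβ : sp p ≫ β = sp q ≫ α) (h : B') (U : T.Opens) (hU : IsAffineOpen U)
    (h1 : Set.range (sp (algebraMap B (Localization.Away (i h))) ≫ α) ⊆ (U : Set T))
    (h2 : Set.range (sp (algebraMap A' (Localization.Away (j h))) ≫ β) ⊆ (U : Set T)) :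
    ∃ γ : Spec (CommRingCat.of (Localization.Away h)) ⟶ T,
      (∀ {W : Scheme.{u}} (u : W ⟶ Spec (CommRingCat.of (Localization.Away h))) (v : W ⟶ Spec (CommRingCat.of B)),
        u ≫ sp (algebraMap B' (Localization.Away h)) = v ≫ sp i → u ≫ γ = v ≫ α) ∧
      (∀ {W : Scheme.{u}} (u : W ⟶ Spec (CommRingCat.of (Localization.Away h))) (v : W ⟶ Spec (CommRingCat.of A')),
        u ≫ sp (algebraMap B' (Localization.Away h)) = v ≫ sp j → u ≫ γ = v ≫ β) := by
  have hpi : Submonoid.powers h ≤ (Submonoid.powers (i h)).comap i := by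
    rintro x ⟨n, rfl⟩; exact ⟨n, by simp⟩
  have hpj : Submonoid.powers h ≤ (Submonoid.powers (j h)).comap j := by
    rintro x ⟨n, rfl⟩; exact ⟨n, by simp⟩
  let ih : Localization.Away h →+* Localization.Away (i h) := IsLocalization.map _ i hpi
  let jh : Localization.Away h →+* Localization.Away (j h) := IsLocalization.map _ j hpj
  let qh : Localization.Away (i h) →+* Localization.Away (p (j h)) := IsLocalization.map _ q
    (show Submonoid.powers (i h) ≤ (Submonoid.powers (p (j h))).comap q by
      rintro x ⟨n, rfl⟩; exact ⟨n, by simp [H.comm]⟩)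
  let ph : Localization.Away (j h) →+* Localization.Away (p (j h)) := IsLocalization.map _ p
    (show Submonoid.powers (j h) ≤ (Submonoid.powers (p (j h))).comap p by
      rintro x ⟨n, rfl⟩; exact ⟨n, by simp⟩)
  have Hh : IsFerrand ph qh ih jh := H.away h
  rw [← hU.range_fromSpec] at h1 h2
  obtain ⟨κ1, hκ1⟩ := Spec.map_surjective (IsOpenImmersion.lift hU.fromSpec _ h1)
  obtain ⟨κ2, hκ2⟩ := Spec.map_surjective (IsOpenImmersion.lift hU.fromSpec _ h2)
  have e1 : Spec.map κ1 ≫ hU.fromSpec = sp (algebraMap B (Localization.Away (i h))) ≫ α := by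
    rw [hκ1, IsOpenImmersion.lift_fac]
  have e2 : Spec.map κ2 ≫ hU.fromSpec = sp (algebraMap A' (Localization.Away (j h))) ≫ β := by
    rw [hκ2, IsOpenImmersion.lift_fac]
  have eA : κ1 ≫ CommRingCat.ofHom qh = κ2 ≫ CommRingCat.ofHom ph := by
    refine Spec.map_injective ?_
    rw [← cancel_mono hU.fromSpec, Spec.map_comp, Spec.map_comp, Category.assoc, Category.assoc, e1, e2,
      ← Category.assoc, ← Category.assoc, sp_comp, sp_comp, IsLocalization.map_comp, IsLocalization.map_comp,
      ← sp_comp q (algebraMap A _), ← sp_comp p (algebraMap A _), Category.assoc, Category.assoc, hαβ]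
  choose κ hκi hκj using fun a => Hh.exist (κ1.hom a) (κ2.hom a) (congrArg (fun f => f.hom a) eA)
  let K : Γ(T, U) →+* Localization.Away h :=
    { toFun := κ
      map_one' := Hh.ext _ _ (by rw [hκi, map_one, map_one]) (by rw [hκj, map_one, map_one])
      map_mul' := fun a b => Hh.ext _ _ (by rw [hκi, map_mul, map_mul, hκi, hκi])
        (by rw [hκj, map_mul, map_mul, hκj, hκj])
      map_zero' := Hh.ext _ _ (by rw [hκi, map_zero, map_zero]) (by rw [hκj, map_zero, map_zero])
      map_add' := fun a b => Hh.ext _ _ (by rw [hκi, map_add, map_add, hκi, hκi])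
        (by rw [hκj, map_add, map_add, hκj, hκj]) }
  refine ⟨Spec.map (CommRingCat.ofHom K) ≫ hU.fromSpec, ?_, ?_⟩
  · intro W u v huv
    have hr : Set.range v ⊆ Set.range (sp (algebraMap B (Localization.Away (i h)))) := by
      rintro _ ⟨w, rfl⟩
      rw [range_sp_away]
      have : comap i (v w) ∈ basicOpen h := by
        have e : comap (algebraMap B' (Localization.Away h)) (u w) = comap i (v w) :=
          congrArg (fun k : W ⟶ Spec (CommRingCat.of B') => k w) huv
        rw [← e, ← SetLike.mem_coe, ← range_sp_away]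
        exact ⟨_, rfl⟩
      exact this
    let w := IsOpenImmersion.lift _ v hr
    have hwv : w ≫ sp (algebraMap B (Localization.Away (i h))) = v := IsOpenImmersion.lift_fac _ _ _
    have hwu : w ≫ sp ih = u := by
      rw [← cancel_mono (sp (algebraMap B' (Localization.Away h))), Category.assoc, sp_comp,
        IsLocalization.map_comp, ← sp_comp, ← Category.assoc, hwv, huv]
    have e : CommRingCat.ofHom K ≫ CommRingCat.ofHom ih = κ1 := by ext a; exact hκi a
    rw [← hwu, ← hwv, Category.assoc, Category.assoc, ← e1, ← e, Spec.map_comp, Category.assoc]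
  · intro W u v huv
    have hr : Set.range v ⊆ Set.range (sp (algebraMap A' (Localization.Away (j h)))) := by
      rintro _ ⟨w, rfl⟩
      rw [range_sp_away]
      have : comap j (v w) ∈ basicOpen h := by
        have e : comap (algebraMap B' (Localization.Away h)) (u w) = comap j (v w) :=
          congrArg (fun k : W ⟶ Spec (CommRingCat.of B') => k w) huv
        rw [← e, ← SetLike.mem_coe, ← range_sp_away]
        exact ⟨_, rfl⟩
      exact this
    let w := IsOpenImmersion.lift _ v hr
    have hwv : w ≫ sp (algebraMap A' (Localization.Away (j h))) = v := IsOpenImmersion.lift_fac _ _ _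
    have hwu : w ≫ sp jh = u := by
      rw [← cancel_mono (sp (algebraMap B' (Localization.Away h))), Category.assoc, sp_comp,
        IsLocalization.map_comp, ← sp_comp, ← Category.assoc, hwv, huv]
    have e : CommRingCat.ofHom K ≫ CommRingCat.ofHom jh = κ2 := by ext a; exact hκj a
    rw [← hwu, ← hwv, Category.assoc, Category.assoc, ← e2, ← e, Spec.map_comp, Category.assoc]

/-- Existence. -/
theorem IsFerrand.exists_desc (H : IsFerrand p q i j) {T : Scheme.{u}} (α : Spec (CommRingCat.of B) ⟶ T)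
    (β : Spec (CommRingCat.of A') ⟶ T) (hαβ : sp p ≫ β = sp q ≫ α) :
    ∃ γ, sp i ≫ γ = α ∧ sp j ≫ γ = β := by
  choose h hP U hU h1 h2 using H.exists_local α β hαβ
  choose γ hγ1 hγ2 using fun P => H.exists_over α β hαβ (h P) (U P) (hU P) (h1 P) (h2 P)
  let 𝒰 : (Spec (CommRingCat.of B')).OpenCover :=
    { I₀ := PrimeSpectrum B'
      X := fun P => Spec (CommRingCat.of (Localization.Away (h P)))
      f := fun P => sp (algebraMap B' (Localization.Away (h P)))
      mem₀ := by
        rw [Scheme.presieve₀_mem_precoverage_iff]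
        refine ⟨fun P => ⟨P, ?_⟩, fun P => inferInstanceAs (IsOpenImmersion (sp _))⟩
        show P ∈ Set.range (sp (algebraMap B' (Localization.Away (h P))))
        rw [range_sp_away]
        exact hP P }
  let G := 𝒰.glueMorphisms γ (fun P₁ P₂ => by
    refine Scheme.hom_ext_of_forall _ _ fun z => ?_
    let a := pullback.fst (𝒰.f P₁) (𝒰.f P₂) ≫ 𝒰.f P₁
    haveI : ∀ P, IsOpenImmersion (𝒰.f P) := fun P => inferInstanceAs (IsOpenImmersion (sp _))
    haveI : IsOpenImmersion a := inferInstance
    obtain ⟨_, ⟨_, ⟨g, rfl⟩, rfl⟩, hzg, hga⟩ :=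
      (PrimeSpectrum.isBasis_basic_opens (R := B')).exists_subset_of_mem_open (a := a z)
        (Set.mem_range_self z) a.isOpenEmbedding.isOpen_range
    let ι := sp (algebraMap B' (Localization.Away g))
    have hιa : Set.range ι ⊆ Set.range a := by rw [range_sp_away]; exact hga
    let l := IsOpenImmersion.lift a ι hιa
    have hl : l ≫ a = ι := IsOpenImmersion.lift_fac _ _ _
    haveI : IsOpenImmersion l := by
      haveI : IsOpenImmersion (l ≫ a) := by rw [hl]; infer_instance
      exact IsOpenImmersion.of_comp l a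
    refine ⟨l.opensRange, ?_, ?_⟩
    · show z ∈ Set.range l
      obtain ⟨w, hw⟩ : a z ∈ Set.range ι := by rw [range_sp_away]; exact hzg
      refine ⟨w, a.isOpenEmbedding.injective ?_⟩
      rw [← hw, ← hl]; rfl
    rw [← Scheme.Hom.isoOpensRange_inv_comp l, Category.assoc, Category.assoc]
    congr 1
    refine (H.away g).hom_ext ?_ ?_
    · rw [← Category.assoc, ← Category.assoc, ← Category.assoc, ← Category.assoc]
      refine (hγ1 P₁ _ (sp (algebraMap B (Localization.Away (i g)))) ?_).trans
        (hγ1 P₂ _ (sp (algebraMap B (Localization.Away (i g)))) ?_).symm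
      · show ((_ ≫ l) ≫ pullback.fst _ _) ≫ 𝒰.f P₁ = _
        rw [Category.assoc, Category.assoc, hl, sp_comp, IsLocalization.map_comp, ← sp_comp]
      · show ((_ ≫ l) ≫ pullback.snd _ _) ≫ 𝒰.f P₂ = _
        rw [Category.assoc, Category.assoc, ← pullback.condition, hl, sp_comp, IsLocalization.map_comp, ← sp_comp]
    · rw [← Category.assoc, ← Category.assoc, ← Category.assoc, ← Category.assoc]
      refine (hγ2 P₁ _ (sp (algebraMap A' (Localization.Away (j g)))) ?_).trans
        (hγ2 P₂ _ (sp (algebraMap A' (Localization.Away (j g)))) ?_).symm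
      · show ((_ ≫ l) ≫ pullback.fst _ _) ≫ 𝒰.f P₁ = _
        rw [Category.assoc, Category.assoc, hl, sp_comp, IsLocalization.map_comp, ← sp_comp]
      · show ((_ ≫ l) ≫ pullback.snd _ _) ≫ 𝒰.f P₂ = _
        rw [Category.assoc, Category.assoc, ← pullback.condition, hl, sp_comp, IsLocalization.map_comp, ← sp_comp])
  have hG : ∀ P, 𝒰.f P ≫ G = γ P := fun P => Scheme.Cover.ι_glueMorphisms 𝒰 γ _ P
  refine ⟨G, ?_, ?_⟩
  · refine Scheme.Cover.hom_ext (𝒰.pullback₁ (sp i)) _ _ fun P => ?_
    show pullback.fst (sp i) (𝒰.f P) ≫ sp i ≫ G = pullback.fst _ _ ≫ α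
    exact ((pullback.condition_assoc G).trans (congrArg (pullback.snd _ _ ≫ ·) (hG P))).trans
      (hγ1 P _ _ pullback.condition.symm)
  · refine Scheme.Cover.hom_ext (𝒰.pullback₁ (sp j)) _ _ fun P => ?_
    show pullback.fst (sp j) (𝒰.f P) ≫ sp j ≫ G = pullback.fst _ _ ≫ β
    exact ((pullback.condition_assoc G).trans (congrArg (pullback.snd _ _ ≫ ·) (hG P))).trans
      (hγ2 P _ _ pullback.condition.symm)

theorem isPushout_of_isFerrand (H : IsFerrand p q i j) : IsPushout (sp p) (sp q) (sp j) (sp i) := by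
  have w : sp p ≫ sp j = sp q ≫ sp i := by
    rw [sp_comp, sp_comp]
    exact congrArg (fun k => sp k) (RingHom.ext fun x => (H.comm x).symm)
  refine IsPushout.of_isColimit' ⟨w⟩ (PushoutCocone.IsColimit.mk w
    (fun s => (H.exists_desc s.inr s.inl s.condition).choose)
    (fun s => (H.exists_desc s.inr s.inl s.condition).choose_spec.2)
    (fun s => (H.exists_desc s.inr s.inl s.condition).choose_spec.1)
    (fun s m h1 h2 => H.hom_ext
      (h2.trans (H.exists_desc s.inr s.inl s.condition).choose_spec.1.symm)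
      (h1.trans (H.exists_desc s.inr s.inl s.condition).choose_spec.2.symm)))

theorem main {A A' B : Type u} [CommRing A] [CommRing A'] [CommRing B] (p : A' →+* A)
    (hp : Function.Surjective p) (q : B →+* A) :
    IsPushout (Spec.map (CommRingCat.ofHom p)) (Spec.map (CommRingCat.ofHom q))
      (Spec.map (pullback.snd (CommRingCat.ofHom q) (CommRingCat.ofHom p)))
      (Spec.map (pullback.fst (CommRingCat.ofHom q) (CommRingCat.ofHom p))) := by
  let f := CommRingCat.ofHom q
  let g := CommRingCat.ofHom p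
  let c := CommRingCat.pullbackCone f g
  let e : pullback f g ≅ c.pt :=
    (pullback.isLimit f g).conePointUniqueUpToIso (CommRingCat.pullbackConeIsLimit f g)
  have he1 : e.hom ≫ c.fst = pullback.fst f g :=
    IsLimit.conePointUniqueUpToIso_hom_comp _ _ WalkingCospan.left
  have he2 : e.hom ≫ c.snd = pullback.snd f g :=
    IsLimit.conePointUniqueUpToIso_hom_comp _ _ WalkingCospan.right
  have hbij := (ConcreteCategory.bijective_of_isIso e.hom)
  have H : IsFerrand p q (pullback.fst f g).hom (pullback.snd f g).hom :=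
    { surj := hp
      comm := fun x => congrArg (fun k => k.hom x) (pullback.condition (f := f) (g := g))
      exist := fun b a hba => by
        obtain ⟨x, hx⟩ := hbij.2 ⟨(b, a), hba⟩
        refine ⟨x, ?_, ?_⟩
        · rw [← he1]; exact congrArg (fun z => z.1.1) hx
        · rw [← he2]; exact congrArg (fun z => z.1.2) hx
      ext := fun x y h1 h2 => by
        rw [← he1] at h1; rw [← he2] at h2
        exact hbij.1 (Subtype.ext (Prod.ext h1 h2)) }
  exact isPushout_of_isFerrand H

end Groth.Agent.FerrandPush
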